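import Cfsg.Agent.Classical.OrthSylowTwo.Transport
import Cfsg.Agent.Classical.Orth.Simple
import Cfsg.Agent.ThreeTransposition.PairNormaliser.ReflCenter
import Cfsg.Agent.S2623

/-!
The derived group of the projective reflection group in dimension eight of determinant one over three elements is the
simple orthogonal group of plus type.
-/

set_option autoImplicit false

namespace Cfsg.Lib.Fischer.Models

open Cfsg Subgroup
open Cfsg.Lib.Classical
open Matrix (mulVec)
open scoped Matrix

/-- The plus form on coordinates numbered by eight indices. -/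
noncomputable def plusEight : QuadraticForm (ZMod 3) (Fin 8 → ZMod 3) :=
  (HypQuad.plusForm 4 (ZMod 3)).comp
    ((LinearEquiv.funCongrLeft (ZMod 3) (ZMod 3) (finSumFinEquiv (m := 4) (n := 4))).toLinearMap)

theorem exists_plus_equiv {Q : QuadraticForm (ZMod 3) (Fin 8 → ZMod 3)}
    (hQ : (QuadraticMap.polarBilin Q).Nondegenerate) (hdet : Cfsg.polarGramDet (⇑Q) = 1) :
    Nonempty (Cfsg.isometryGroup (ZMod 3) (⇑Q) ≃* Cfsg.isometryGroup (ZMod 3) (Cfsg.quadFormPlus 4 (ZMod 3))) := by
  haveI : Fact (Nat.Prime 3) := ⟨Nat.prime_three⟩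
  set e := LinearEquiv.funCongrLeft (ZMod 3) (ZMod 3) (finSumFinEquiv (m := 4) (n := 4)) with he
  have hval : ∀ v, plusEight v = HypQuad.plusForm 4 (ZMod 3) (e v) := fun v => rfl
  have hpol : ∀ x y, QuadraticMap.polar (⇑plusEight) x y =
      QuadraticMap.polar (⇑(HypQuad.plusForm 4 (ZMod 3))) (e x) (e y) := fun x y => by
    simp only [QuadraticMap.polar, hval, map_add]
  have hnd : (QuadraticMap.polarBilin plusEight).Nondegenerate := by
    refine ⟨fun x hx => e.map_eq_zero_iff.1 ((HypQuad.plusForm_nondegenerate 4).1 _ fun y => ?_),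
      fun x hx => e.map_eq_zero_iff.1 ((HypQuad.plusForm_nondegenerate 4).2 _ fun y => ?_)⟩
    · have := hx (e.symm y)
      rwa [QuadraticMap.polarBilin_apply_apply, hpol, e.apply_symm_apply] at this
    · have := hx (e.symm y)
      rwa [QuadraticMap.polarBilin_apply_apply, hpol, e.apply_symm_apply] at this
  have hsq : IsSquare (Matrix.of fun i j : Fin 8 =>
      QuadraticMap.polar (⇑plusEight) (Pi.single i 1) (Pi.single j 1)).det := by
    have h := (Refl.disc_plus (F := ZMod 3) (q := 3) (ZMod.card 3) (by decide) (m := 4) (by norm_num)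
      ((Pi.basisFun (ZMod 3) (Fin 8)).map e)).2 (by decide)
    rw [show (Matrix.of fun i j : Fin 8 => QuadraticMap.polar (⇑plusEight) (Pi.single i 1) (Pi.single j 1)) =
      Matrix.of fun i j : Fin 8 => QuadraticMap.polar (Cfsg.quadFormPlus 4 (ZMod 3))
        ((Pi.basisFun (ZMod 3) (Fin 8)).map e i) ((Pi.basisFun (ZMod 3) (Fin 8)).map e j) from Matrix.ext fun i j => by
      simp only [Matrix.of_apply]
      rw [hpol, Module.Basis.map_apply, Module.Basis.map_apply, Pi.basisFun_apply, Pi.basisFun_apply,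
        show ⇑(HypQuad.plusForm 4 (ZMod 3)) = Cfsg.quadFormPlus 4 (ZMod 3) from funext (HypQuad.plusForm_apply 4)]]
    exact h
  obtain ⟨g, hg⟩ := (Cfsg.Agent.S2623.result (by decide) plusEight Q hnd hQ).2 (by
    rw [show (Matrix.of fun i j : Fin 8 => QuadraticMap.polar (⇑Q) (Pi.single i 1) (Pi.single j 1)).det = 1 from
      hdet, mul_one]
    exact hsq)
  have hfun : ⇑(HypQuad.plusForm 4 (ZMod 3)) = Cfsg.quadFormPlus 4 (ZMod 3) := funext (HypQuad.plusForm_apply 4)
  obtain ⟨i⟩ := OrthSylowTwo.exists_equiv (HypQuad.plusForm 4 (ZMod 3)) Q (g.symm.trans e) fun x => by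
    show HypQuad.plusForm 4 (ZMod 3) (e (g.symm x)) = Q x
    rw [← hval, ← hg, g.apply_symm_apply]
  exact ⟨i.trans (MulEquiv.subgroupCongr (by rw [hfun]))⟩

/-- The derived group of the projective reflection group. -/
theorem commutator_reflection {Q : QuadraticForm (ZMod 3) (Fin 8 → ZMod 3)}
    (hQ : (QuadraticMap.polarBilin Q).Nondegenerate) (hdet : Cfsg.polarGramDet (⇑Q) = 1) :
    Nonempty (↥(commutator (↥(Cfsg.reflectionSubgroup (⇑Q) 1) ⧸ center ↥(Cfsg.reflectionSubgroup (⇑Q) 1))) ≃*
      Cfsg.POmega (ZMod 3) (Cfsg.quadFormPlus 4 (ZMod 3))) := by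
  haveI : Fact (Nat.Prime 3) := ⟨Nat.prime_three⟩
  set R := Cfsg.reflectionSubgroup (⇑Q) 1 with hR
  set O := Cfsg.Omega (ZMod 3) (⇑Q) with hO
  obtain ⟨i⟩ := exists_plus_equiv hQ hdet
  obtain ⟨j⟩ := OrthSylowTwo.omega_equiv i
  have hidx := ThreeTr.index_reflectionSubgroup Q hQ (by norm_num) (one_ne_zero : (1 : ZMod 3) ≠ 0)
  haveI : R.Normal := Subgroup.normal_of_index_eq_two hidx
  have hOR : O ≤ R := by
    haveI : Fact (Nat.Prime 2) := ⟨Nat.prime_two⟩
    haveI : IsCyclic (Cfsg.isometryGroup (ZMod 3) (⇑Q) ⧸ R) :=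
      isCyclic_of_prime_card (p := 2) (by rw [← hidx]; exact (Subgroup.index_eq_card R).symm)
    exact Subgroup.Normal.quotient_commutative_iff_commutator_le.1 inferInstance
  have hperf := Refl.perfect Q hQ (by simp)
  have hmap : (commutator ↥R).map R.subtype = O := by
    rw [_root_.commutator_def, Subgroup.map_commutator, ← MonoidHom.range_eq_map, Subgroup.range_subtype]
    refine le_antisymm (Subgroup.commutator_mono le_top le_top) ?_
    have h := congrArg (Subgroup.map O.subtype) hperf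
    rw [_root_.commutator_def, Subgroup.map_commutator, ← MonoidHom.range_eq_map, Subgroup.range_subtype] at h
    exact h.ge.trans (Subgroup.commutator_mono hOR hOR)
  -- the map of the derived groups
  have himg : ∀ w : ↥O, ((QuotientGroup.mk' (center ↥R)).comp (Subgroup.inclusion hOR)) w ∈
      commutator (↥R ⧸ center ↥R) := fun w => by
    obtain ⟨r, hr, e⟩ : (w : Cfsg.isometryGroup (ZMod 3) (⇑Q)) ∈ (commutator ↥R).map R.subtype := hmap.symm ▸ w.2
    have e' : Subgroup.inclusion hOR w = r := Subtype.ext e.symm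
    rw [MonoidHom.comp_apply, e', _root_.commutator_def,
      ← Subgroup.map_top_of_surjective _ (QuotientGroup.mk'_surjective (center ↥R)), ← Subgroup.map_commutator]
    exact ⟨r, hr, rfl⟩
  let π : ↥O →* ↥(commutator (↥R ⧸ center ↥R)) :=
    ((QuotientGroup.mk' (center ↥R)).comp (Subgroup.inclusion hOR)).codRestrict _ himg
  have hsurj : Function.Surjective π := by
    rintro ⟨q, hq⟩
    rw [_root_.commutator_def, ← Subgroup.map_top_of_surjective _ (QuotientGroup.mk'_surjective (center ↥R)),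
      ← Subgroup.map_commutator] at hq
    obtain ⟨r, hr, rfl⟩ := hq
    exact ⟨⟨r, hmap ▸ ⟨r, hr, rfl⟩⟩, Subtype.ext rfl⟩
  have hker : π.ker = center ↥O := by
    ext w
    rw [MonoidHom.mem_ker, ← Subtype.coe_inj]
    show QuotientGroup.mk' (center ↥R) (Subgroup.inclusion hOR w) = 1 ↔ _
    rw [QuotientGroup.mk'_apply, QuotientGroup.eq_one_iff]
    constructor
    · intro h
      refine mem_center_iff.2 fun k => Subtype.ext ?_
      have hk := congrArg Subtype.val (mem_center_iff.1 h (Subgroup.inclusion hOR k))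
      simpa using hk
    · intro h
      refine mem_center_iff.2 fun k => Subtype.ext ?_
      refine Refl.ext_mulVec Q fun x => ?_
      show Refl.mat Q ((k : Cfsg.isometryGroup (ZMod 3) (⇑Q)) * w) *ᵥ x = Refl.mat Q (w.1 * k.1) *ᵥ x
      rw [show Refl.mat Q ((k : Cfsg.isometryGroup (ZMod 3) (⇑Q)) * w) = Refl.mat Q k.1 * Refl.mat Q w.1 from rfl,
        show Refl.mat Q (w.1 * k.1) = Refl.mat Q w.1 * Refl.mat Q k.1 from rfl]
      rcases (Refl.mem_center_iff_sign Q hQ (by simp)).1 h with e | e <;> rw [e] <;> simp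
  let k : ↥O ⧸ center ↥O ≃* ↥(commutator (↥R ⧸ center ↥R)) :=
    (QuotientGroup.quotientMulEquivOfEq hker.symm).trans (QuotientGroup.quotientKerEquivOfSurjective π hsurj)
  refine ⟨k.symm.trans (QuotientGroup.congr _ _ j ?_)⟩
  ext y
  obtain ⟨x, rfl⟩ := j.surjective y
  constructor
  · rintro ⟨z, hz, e⟩
    obtain rfl : z = x := j.injective e
    refine mem_center_iff.2 fun w => ?_
    obtain ⟨w, rfl⟩ := j.surjective w
    rw [← map_mul, ← map_mul, mem_center_iff.1 hz w]
  · intro hx
    refine ⟨x, mem_center_iff.2 fun w => j.injective ?_, rfl⟩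
    rw [map_mul, map_mul]
    exact mem_center_iff.1 hx (j w)

end Cfsg.Lib.Fischer.Models
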