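import Cfsg.Agent.Fischer.Models.TriLike.Trio
import Cfsg.Agent.S0296
import Cfsg.Agent.Classical.Orth.Simple

/-!
The group generated by three such sets has the simple orthogonal group as a normal subgroup modulo its centre, with
quotient the symmetric group of degree three.
-/

set_option autoImplicit false
set_option linter.unusedSectionVars false

namespace Cfsg.Lib.Fischer.Models

open Cfsg Subgroup Cfsg.Lib.ThreeTr
open scoped commutatorElement

universe u

/-- A central commutator function on a perfect subgroup is trivial. -/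
theorem commute_of_perfect {Γ : Type u} [Group Γ] {A : Subgroup Γ} (hA : commutator ↥A = ⊤) {m : Γ}
    (hm : ∀ a ∈ A, ⁅a, m⁆ ∈ A ∧ ∀ b ∈ A, Commute ⁅a, m⁆ b) : ∀ a ∈ A, Commute a m := by
  let φ : ↥A →* ↥(center ↥A) :=
    MonoidHom.mk' (fun a => ⟨⟨⁅(a : Γ), m⁆, (hm a a.2).1⟩,
      mem_center_iff.2 fun b => Subtype.ext (((hm a a.2).2 b b.2).symm.eq)⟩) fun a b => by
      refine Subtype.ext (Subtype.ext ?_)
      show ⁅(a : Γ) * b, m⁆ = ⁅(a : Γ), m⁆ * ⁅(b : Γ), m⁆
      have hc := ((hm b b.2).2 a a.2).eq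
      rw [show ⁅(a : Γ) * b, m⁆ = a * ⁅(b : Γ), m⁆ * (a : Γ)⁻¹ * ⁅(a : Γ), m⁆ by
          simp only [commutatorElement_def]; group, ← hc, mul_inv_cancel_right]
      exact ((hm b b.2).2 _ (hm a a.2).1).eq
  have hker : commutator ↥A ≤ φ.ker := by
    rw [_root_.commutator_def, Subgroup.commutator_le]
    intro a _ b _
    rw [MonoidHom.mem_ker, map_commutatorElement, commutatorElement_eq_one_iff_mul_comm]
    exact Subtype.ext ((mem_center_iff.1 (φ b).2 _))
  intro a ha
  have := MonoidHom.mem_ker.1 (hker (hA ▸ mem_top (⟨a, ha⟩ : ↥A)))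
  have h1 : ⁅a, m⁆ = 1 := congrArg (fun t : ↥(center ↥A) => ((t : ↥A) : Γ)) this
  exact commutatorElement_eq_one_iff_mul_comm.1 h1

/-- A group generated by two involutions whose product has order three has at most six elements. -/
theorem card_le_six {Q : Type u} [Group Q] [Finite Q] {a b : Q} (ha : a * a = 1) (hb : b * b = 1)
    (hab : (a * b) ^ 3 = 1) (hgen : closure {a, b} = ⊤) : Nat.card Q ≤ 6 := by
  obtain ⟨r, hr⟩ : ∃ r, r = a * b := ⟨_, rfl⟩
  rw [← hr] at hab
  set S : Set Q := ({1, r, r * r} : Set Q) ∪ ({a, a * r, a * (r * r)} : Set Q) with hS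
  have hr3 : r * (r * r) = 1 := by rw [pow_succ, pow_two, mul_assoc] at hab; exact hab
  have hbe : b = a * r := by rw [hr, ← mul_assoc, ha, one_mul]
  have hbr : b * a = r * r := by
    refine (eq_inv_of_mul_eq_one_right hr3).trans ?_ |>.symm
    rw [hr, mul_inv_rev, inv_eq_of_mul_eq_one_left ha, inv_eq_of_mul_eq_one_left hb]
  have hA : ∀ s ∈ S, a * s ∈ S := fun s hs => by
    rcases hs with (rfl | rfl | rfl) | (rfl | rfl | rfl) <;>
      simp [hS, ← mul_assoc, ha]
  have hR : ∀ s ∈ ({1, r, r * r} : Set Q), r * r * s ∈ ({1, r, r * r} : Set Q) ∧ r * s ∈ ({1, r, r * r} : Set Q) := by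
    intro s hs
    rcases hs with rfl | rfl | rfl
    · simp
    · exact ⟨by rw [mul_assoc, hr3]; simp, by simp⟩
    · exact ⟨by rw [mul_assoc, hr3, mul_one]; simp, by rw [hr3]; simp⟩
  have hB : ∀ s ∈ S, b * s ∈ S := fun s hs => by
    rcases hs with hs | hs
    · rw [hbe, mul_assoc]
      rcases (hR s hs).2 with e | e | e <;> rw [e] <;> simp [hS]
    · obtain ⟨t, ht, rfl⟩ : ∃ t ∈ ({1, r, r * r} : Set Q), a * t = s := by
        rcases hs with e | e | e
        · exact ⟨1, by simp, (mul_one a).trans e.symm⟩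
        · exact ⟨r, by simp, e.symm⟩
        · exact ⟨r * r, by simp, e.symm⟩
      rw [← mul_assoc, hbr]
      exact Or.inl (hR t ht).1
  have hall : ∀ q : Q, q ∈ S := fun q => by
    have hq : q ∈ closure ({a, b} : Set Q) := hgen ▸ mem_top q
    suffices ∀ s ∈ S, q * s ∈ S by simpa using this 1 (by simp [hS])
    induction hq using closure_induction'' with
    | one => intro s hs; simpa using hs
    | mem x hx => intro s hs; rcases hx with e | e <;> rw [e]; exacts [hA s hs, hB s hs]
    | inv_mem x hx =>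
      intro s hs
      rcases hx with e | e <;> rw [e]
      · rw [inv_eq_of_mul_eq_one_left ha]; exact hA s hs
      · rw [inv_eq_of_mul_eq_one_left hb]; exact hB s hs
    | mul u v _ _ hu hv => intro s hs; rw [mul_assoc]; exact hu _ (hv s hs)
  classical
  have h3 : ∀ x y z : Q, ({x, y, z} : Set Q).ncard ≤ 3 := fun x y z =>
    (Set.ncard_insert_le _ _).trans (by
      have := (Set.ncard_insert_le y ({z} : Set Q)); rw [Set.ncard_singleton] at this; omega)
  rw [← Set.ncard_univ, ← Set.eq_univ_of_forall hall]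
  exact (Set.ncard_union_le _ _).trans (Nat.add_le_add (h3 _ _ _) (h3 _ _ _))

variable {Γ : Type u} [Group Γ] [Finite Γ] {P : Fin 3 → Set Γ}

/-- The simple orthogonal group is not commutative. -/
theorem not_comm_pomega :
    ¬ ∀ a b : Cfsg.POmega (ZMod 3) (Cfsg.quadFormPlus 4 (ZMod 3)), a * b = b * a := by
  haveI : Fact (Nat.Prime 3) := ⟨Nat.prime_three⟩
  rw [show Cfsg.quadFormPlus 4 (ZMod 3) = ⇑(Cfsg.Lib.Classical.HypQuad.plusForm 4 (ZMod 3)) from
    (funext (Cfsg.Lib.Classical.HypQuad.plusForm_apply 4)).symm]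
  intro hc
  set O := Cfsg.Omega (ZMod 3) (⇑(Cfsg.Lib.Classical.HypQuad.plusForm 4 (ZMod 3)))
  have hN := Cfsg.Lib.Classical.HypQuad.plusForm_nondegenerate (F := ZMod 3) 4
  refine Cfsg.Lib.Classical.Refl.center_ne_top _ hN (by simp) (eq_top_iff.2 ?_)
  rw [← Cfsg.Lib.Classical.Refl.perfect _ hN (by simp)]
  refine Subgroup.Normal.quotient_commutative_iff_commutator_le.1 ⟨⟨fun a b => hc a b⟩⟩

/-- A derived group covered by its own derived group and the centre, and equal to its commutator with the whole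
group, is perfect. -/
theorem perfect_of_cover {K : Type u} [Group K]
    (hcov : ∀ w ∈ commutator K, ∃ u ∈ (commutator ↥(commutator K)).map (commutator K).subtype, ∃ z ∈ center K, w = u * z)
    (hgen : commutator K ≤ ⁅(⊤ : Subgroup K), commutator K⁆) : commutator ↥(commutator K) = ⊤ := by
  haveI : ((commutator ↥(commutator K)).map (commutator K).subtype).Normal := inferInstance
  have h2 : commutator K ≤ (commutator ↥(commutator K)).map (commutator K).subtype := by
    refine hgen.trans (commutator_le.2 fun g _ k hk => ?_)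
    obtain ⟨u, hu, z, hz, rfl⟩ := hcov k hk
    have hgz : Commute g z := mem_center_iff.1 hz g
    rw [commutatorElement_def, mul_inv_rev, ← mul_assoc g u z, mul_assoc (g * u) z g⁻¹,
      hgz.symm.inv_right.eq, ← mul_assoc (g * u) g⁻¹ z, ← mul_assoc, mul_inv_cancel_right]
    exact mul_mem (Subgroup.Normal.conj_mem inferInstance _ hu g) (inv_mem hu)
  refine eq_top_iff.2 fun w _ => ?_
  obtain ⟨u, hu, e⟩ := h2 w.2
  rwa [show w = u from Subtype.ext e.symm]

/-- The model of the group generated by one of the sets. -/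
def PairsModel (S : Set Γ) : Prop :=
  Nonempty (↥(commutator (↥(closure S) ⧸ center ↥(closure S))) ≃* Cfsg.POmega (ZMod 3) (Cfsg.quadFormPlus 4 (ZMod 3)))

namespace Trio

variable (h : Trio P) (hm : ∀ i, PairsModel (P i))
include h

theorem conj_pairs_self {i : Fin 3} {x m : Γ} (hx : x ∈ P i) (hm : m ∈ pairs P i) : x * m * x⁻¹ ∈ pairs P i := by
  have := h.conj_pairs x hm
  rwa [h.perm_member hx, (by decide : ∀ i, swapOthers i i = i) i] at this

theorem pairs_le {i : Fin 3} (A : Subgroup Γ) (hA : ∀ x ∈ P i, ∀ y ∈ P i, ¬ Commute x y → x * y ∈ A) :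
    pairs P i ≤ A := (closure_le _).2 fun g ⟨a, ha, b, hb, e⟩ => by
  rw [← e]
  by_cases hc : Commute a b
  · rcases eq_or_ne a b with rfl | hne
    · rw [h.sq ha]; exact one_mem _
    obtain ⟨z, hz, hza, hzb⟩ := r_neither (h.refl i) ha hb hc hne
    have := mul_mem (hA a ha z hz fun c => hza c.symm) (hA z hz b hb hzb)
    rwa [show a * z * (z * b) = a * (z * z) * b by simp only [mul_assoc], h.sq hz, mul_one] at this
  · exact hA a ha b hb hc

theorem pairs_eq (i : Fin 3) : pairs P i = (commutator ↥(closure (P i))).map (closure (P i)).subtype := by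
  set K := closure (P i) with hK
  refine le_antisymm (h.pairs_le _ fun x hx y hy hn => ?_) ?_
  · have h3 : (x * y) ^ 3 = 1 := cube_of_not_commute h.tr (h.mem hx) (h.mem hy) hn
    have hc : ⁅(⟨x, subset_closure hx⟩ : ↥K), ⟨y, subset_closure hy⟩⁆ ∈ commutator ↥K := by
      rw [_root_.commutator_def]
      exact commutator_mem_commutator (mem_top _) (mem_top _)
    refine ⟨_, mul_mem hc hc, ?_⟩
    simp only [map_mul, coe_subtype, map_commutatorElement, commutatorElement_def, Subgroup.coe_mul, Subgroup.coe_inv]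
    rw [Cfsg.Lib.ThreeTr.inv_eq h.tr (h.mem hx), Cfsg.Lib.ThreeTr.inv_eq h.tr (h.mem hy)]
    calc x * y * x * y * (x * y * x * y) = (x * y) ^ 3 * (x * y) := by
          simp only [pow_succ, pow_zero, one_mul, mul_assoc]
      _ = x * y := by rw [h3, one_mul]
  · obtain ⟨x₀, hx₀⟩ := r_nonempty (h.refl i)
    have hle : pairs P i ≤ K := (closure_le _).2 fun g ⟨a, ha, b, hb, e⟩ =>
      e ▸ mul_mem (subset_closure ha) (subset_closure hb)
    set A := (pairs P i).subgroupOf K with hA
    haveI : A.Normal := by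
      constructor
      intro n hn g
      rw [hA, mem_subgroupOf] at hn ⊢
      simp only [Subgroup.coe_mul, Subgroup.coe_inv]
      have hg : (g : Γ) ∈ closure (P i) := g.2
      generalize (g : Γ) = t at hg
      generalize (n : Γ) = m at hn
      induction hg using closure_induction'' generalizing m with
      | one => simpa using hn
      | mem x hx => exact h.conj_pairs_self hx hn
      | inv_mem x hx => rw [Cfsg.Lib.ThreeTr.inv_eq h.tr (h.mem hx)]; exact h.conj_pairs_self hx hn
      | mul u v _ _ hu hv =>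
        rw [show u * v * m * (u * v)⁻¹ = u * (v * m * v⁻¹) * u⁻¹ by group]
        exact hu _ (hv m hn)
    haveI : IsCyclic (↥K ⧸ A) := by
      refine ⟨⟨QuotientGroup.mk (⟨x₀, subset_closure hx₀⟩ : ↥K), fun q => ?_⟩⟩
      obtain ⟨g, rfl⟩ := QuotientGroup.mk_surjective q
      suffices g ∈ (zpowers (QuotientGroup.mk' A (⟨x₀, subset_closure hx₀⟩ : ↥K))).comap (QuotientGroup.mk' A) from
        this
      refine (closure_le _).2 (fun x hx => ?_) (closure_closure_coe_preimage (k := P i) ▸ mem_top g)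
      show QuotientGroup.mk' A x ∈ zpowers _
      rw [show QuotientGroup.mk' A x = QuotientGroup.mk' A (⟨x₀, subset_closure hx₀⟩ : ↥K) from
        QuotientGroup.eq.2 (by
          rw [hA, mem_subgroupOf, Subgroup.coe_mul, Subgroup.coe_inv,
            Cfsg.Lib.ThreeTr.inv_eq h.tr (h.mem hx)]
          exact mul_mem_pairs hx hx₀)]
      exact mem_zpowers _
    have hc : commutator ↥K ≤ A := Subgroup.Normal.quotient_commutative_iff_commutator_le.1 inferInstance
    rintro _ ⟨k, hk, rfl⟩
    exact hc hk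

include hm

theorem model_facts (i : Fin 3) :
    commutator ↥(commutator ↥(closure (P i))) = ⊤ ∧
      (center ↥(commutator ↥(closure (P i))) =
        (center ↥(closure (P i))).subgroupOf (commutator ↥(closure (P i)))) ∧
      Nonempty (↥(commutator ↥(closure (P i))) ⧸ center ↥(commutator ↥(closure (P i))) ≃*
        Cfsg.POmega (ZMod 3) (Cfsg.quadFormPlus 4 (ZMod 3))) := by
  set K := closure (P i) with hK
  set K' := commutator ↥K with hK'
  obtain ⟨φ⟩ := hm i
  haveI : Fact (Nat.Prime 3) := ⟨Nat.prime_three⟩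
  haveI : IsSimpleGroup (Cfsg.POmega (ZMod 3) (Cfsg.quadFormPlus 4 (ZMod 3))) := Cfsg.Agent.S0296.result 4 le_rfl
  have himg : (commutator ↥K).map (QuotientGroup.mk' (center ↥K)) = commutator (↥K ⧸ center ↥K) := by
    rw [_root_.commutator_def, _root_.commutator_def, map_commutator,
      map_top_of_surjective _ (QuotientGroup.mk'_surjective _)]
  let π : ↥K' →* ↥(commutator (↥K ⧸ center ↥K)) :=
    ((QuotientGroup.mk' (center ↥K)).comp K'.subtype).codRestrict _ fun w => himg ▸ ⟨w.1, w.2, rfl⟩
  have hsurj : Function.Surjective π := by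
    rintro ⟨q, hq⟩
    rw [← himg] at hq
    obtain ⟨r, hr, rfl⟩ := hq
    exact ⟨⟨r, hr⟩, Subtype.ext rfl⟩
  have hker : π.ker = (center ↥K).subgroupOf K' := by
    ext w
    rw [MonoidHom.mem_ker, ← Subtype.coe_inj, Subgroup.mem_subgroupOf]
    exact QuotientGroup.eq_one_iff _
  let ψ : ↥K' →* Cfsg.POmega (ZMod 3) (Cfsg.quadFormPlus 4 (ZMod 3)) := φ.toMonoidHom.comp π
  have hψ : Function.Surjective ψ := φ.surjective.comp hsurj
  have hψk : ψ.ker = π.ker := by ext w; simp [ψ]
  have hperf : commutator ↥K' = ⊤ := by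
    refine perfect_of_cover (fun w hw => ?_) ?_
    · have hX : (commutator ↥K').map ψ = ⊤ := by
        have hn : ((commutator ↥K').map ψ).Normal := Subgroup.Normal.map inferInstance _ hψ
        refine (hn.eq_bot_or_eq_top).resolve_left fun hb => ?_
        rw [_root_.commutator_def, map_commutator, map_top_of_surjective _ hψ] at hb
        exact not_comm_pomega fun a b => commutatorElement_eq_one_iff_mul_comm.1
          (mem_bot.1 (hb ▸ commutator_mem_commutator (mem_top a) (mem_top b)))
      obtain ⟨u, hu, e⟩ := (hX ▸ mem_top (ψ ⟨w, hw⟩) : ψ ⟨w, hw⟩ ∈ (commutator ↥K').map ψ)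
      refine ⟨u, ⟨u, hu, rfl⟩, (u : ↥K)⁻¹ * w, ?_, by group⟩
      have : u⁻¹ * ⟨w, hw⟩ ∈ ψ.ker := by rw [MonoidHom.mem_ker, map_mul, map_inv, e, inv_mul_cancel]
      rw [hψk, hker, Subgroup.mem_subgroupOf] at this
      exact this
    · have hle : pairs P i ≤ (⁅(⊤ : Subgroup ↥K), K'⁆).map K.subtype := by
        refine h.pairs_le _ fun x hx y hy hn => ?_
        obtain ⟨t, ht, et⟩ := (h.pairs_eq i ▸ mul_mem_pairs hx hy :
          x * y ∈ (commutator ↥K).map K.subtype)
        refine ⟨⁅(⟨x, subset_closure hx⟩ : ↥K), t⁆, commutator_mem_commutator (mem_top _) ht, ?_⟩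
        rw [map_commutatorElement, et]
        simp only [coe_subtype, commutatorElement_def, mul_inv_rev,
          Cfsg.Lib.ThreeTr.inv_eq h.tr (h.mem hx), Cfsg.Lib.ThreeTr.inv_eq h.tr (h.mem hy)]
        calc x * (x * y) * x * (y * x) = (x * x) * y * x * (y * x) := by simp only [mul_assoc]
          _ = (y * x * y) * x := by rw [h.sq hx, one_mul]; simp only [mul_assoc]
          _ = (x * y * x) * x := by rw [braid h.tr (h.mem hx) (h.mem hy) hn]
          _ = x * y := by rw [mul_assoc (x * y), h.sq hx, mul_one]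
      intro k hk
      obtain ⟨t, ht, et⟩ := hle (h.pairs_eq i ▸ ⟨k, hk, rfl⟩ : (k : Γ) ∈ pairs P i)
      rwa [show k = t from Subtype.ext et.symm]
  have hcen : center ↥K' = π.ker := by
    refine le_antisymm (fun w hw => ?_) fun w hw => ?_
    · have h1 : ψ w ∈ center (Cfsg.POmega (ZMod 3) (Cfsg.quadFormPlus 4 (ZMod 3))) := mem_center_iff.2 fun q => by
        obtain ⟨v, rfl⟩ := hψ q
        rw [← map_mul, ← map_mul, mem_center_iff.1 hw v]
      have h2 : center (Cfsg.POmega (ZMod 3) (Cfsg.quadFormPlus 4 (ZMod 3))) = ⊥ :=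
        (Subgroup.Normal.eq_bot_or_eq_top inferInstance).resolve_right fun e =>
          not_comm_pomega fun a b => (mem_center_iff.1 (e ▸ mem_top a) b).symm
      rw [h2, mem_bot] at h1
      rw [← hψk]
      exact h1
    · rw [hker, Subgroup.mem_subgroupOf] at hw
      exact mem_center_iff.2 fun v => Subtype.ext (mem_center_iff.1 hw v)
  exact ⟨hperf, hcen.trans hker, ⟨(QuotientGroup.quotientMulEquivOfEq (hcen.trans hψk.symm)).trans
    (QuotientGroup.quotientKerEquivOfSurjective ψ hψ)⟩⟩

theorem pairs_perfect (i : Fin 3) : commutator ↥(pairs P i) = ⊤ := by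
  obtain ⟨hp, -, -⟩ := h.model_facts hm i
  rw [h.pairs_eq i]
  set K' := commutator ↥(closure (P i))
  let e := K'.equivMapOfInjective (closure (P i)).subtype (closure (P i)).subtype_injective
  rw [_root_.commutator_def, ← map_top_of_surjective e.toMonoidHom e.surjective, ← map_commutator,
    ← _root_.commutator_def, hp]

/-- The products of pairs of each set form the same group. -/
theorem pairs_le_pairs {i j : Fin 3} (hij : i ≠ j) : pairs P i ≤ pairs P j := by
  obtain ⟨-, hcen, ⟨e⟩⟩ := h.model_facts hm i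
  haveI : Fact (Nat.Prime 3) := ⟨Nat.prime_three⟩
  haveI := Cfsg.Agent.S0296.result (F := ZMod 3) 4 le_rfl
  have hnorm : ∀ {k l : Fin 3} {g m : Γ}, g ∈ pairs P k → m ∈ pairs P l → g * m * g⁻¹ ∈ pairs P l := by
    intro k l g m hg hm'
    have := h.conj_pairs g hm'
    rwa [MonoidHom.mem_ker.1 (h.pairs_le_ker k hg)] at this
  set M := pairs P i with hM
  set N := (pairs P j).subgroupOf M with hN
  haveI hNn : N.Normal := ⟨fun n hn g => by
    rw [hN, mem_subgroupOf] at hn ⊢
    exact hnorm g.2 hn⟩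
  let Φ : ↥(commutator ↥(closure (P i))) ≃* ↥M :=
    ((commutator ↥(closure (P i))).equivMapOfInjective _ (closure (P i)).subtype_injective).trans
      (MulEquiv.subgroupCongr (h.pairs_eq i).symm)
  have hsimple : IsSimpleGroup (↥M ⧸ center ↥M) := by
    have hc : (center ↥(commutator ↥(closure (P i)))).map Φ.toMonoidHom = center ↥M := by
      ext y
      obtain ⟨x, rfl⟩ := Φ.surjective y
      constructor
      · rintro ⟨z, hz, e⟩
        obtain rfl : z = x := Φ.injective e
        refine mem_center_iff.2 fun w => ?_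
        obtain ⟨w, rfl⟩ := Φ.surjective w
        show Φ w * Φ z = Φ z * Φ w
        rw [← map_mul, ← map_mul, mem_center_iff.1 hz w]
      · intro hx
        refine ⟨x, mem_center_iff.2 fun w => Φ.injective ?_, rfl⟩
        rw [map_mul, map_mul]
        exact mem_center_iff.1 hx (Φ w)
    let q := (QuotientGroup.congr _ _ Φ hc).symm.trans e
    haveI : Nontrivial (↥M ⧸ center ↥M) := q.toEquiv.nontrivial
    exact IsSimpleGroup.isSimpleGroup_of_surjective q.symm.toMonoidHom q.symm.surjective
  rcases (Subgroup.Normal.map hNn (QuotientGroup.mk' (center ↥M))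
    (QuotientGroup.mk'_surjective _)).eq_bot_or_eq_top with hb | ht
  · -- the common part is central
    exfalso
    obtain ⟨m, hm', m', hm'', hne⟩ := h.not_centralizes hij
    refine hne (commute_of_perfect (h.pairs_perfect hm i) (fun a ha => ?_) m hm')
    have hmem : ⁅a, m'⁆ ∈ M := by
      rw [commutatorElement_def, show a * m' * a⁻¹ * m'⁻¹ = a * (m' * a⁻¹ * m'⁻¹) by group]
      exact mul_mem ha (hnorm hm'' (inv_mem ha))
    refine ⟨hmem, fun b hb' => ?_⟩
    have hN' : (⟨_, hmem⟩ : ↥M) ∈ N := by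
      rw [hN, mem_subgroupOf]
      show ⁅a, m'⁆ ∈ pairs P j
      rw [commutatorElement_def]
      exact mul_mem (hnorm ha hm'') (inv_mem hm'')
    have hc : (⟨_, hmem⟩ : ↥M) ∈ center ↥M :=
      (QuotientGroup.eq_one_iff _).1 (mem_bot.1 (hb ▸ ⟨_, hN', rfl⟩))
    exact (congrArg Subtype.val (mem_center_iff.1 hc ⟨b, hb'⟩)).symm
  · have htop : N = ⊤ := by
      refine eq_top_iff.2 ?_
      rw [← h.pairs_perfect hm i, _root_.commutator_def, commutator_le]
      intro a _ b _
      have key : ∀ a : ↥M, ∃ u ∈ N, ∃ z ∈ center ↥M, a = u * z := fun a => by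
        obtain ⟨u, hu, e'⟩ := (ht ▸ mem_top (QuotientGroup.mk' (center ↥M) a) :
          QuotientGroup.mk' (center ↥M) a ∈ N.map (QuotientGroup.mk' (center ↥M)))
        exact ⟨u, hu, u⁻¹ * a, QuotientGroup.eq.1 e', by group⟩
      obtain ⟨u, hu, z, hz, rfl⟩ := key a
      obtain ⟨v, hv, t, ht', rfl⟩ := key b
      have h1 : ∀ x, Commute z x := fun x => (mem_center_iff.1 hz x).symm
      have h2 : ∀ x, Commute t x := fun x => (mem_center_iff.1 ht' x).symm
      have : ⁅u * z, v * t⁆ = ⁅u, v⁆ := by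
        simp only [commutatorElement_def, mul_inv_rev]
        calc u * z * (v * t) * (z⁻¹ * u⁻¹) * (t⁻¹ * v⁻¹) = u * (z * (v * t) * z⁻¹) * u⁻¹ * (t⁻¹ * v⁻¹) := by
              simp only [mul_assoc]
          _ = u * v * (t * u⁻¹ * t⁻¹) * v⁻¹ := by
              rw [(h1 _).eq, mul_inv_cancel_right]; simp only [mul_assoc]
          _ = u * v * u⁻¹ * v⁻¹ := by rw [(h2 _).eq, mul_inv_cancel_right]
      rw [this, commutatorElement_def]
      exact mul_mem (mul_mem (mul_mem hu hv) (inv_mem hu)) (inv_mem hv)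
    intro x hx
    have : (⟨x, hx⟩ : ↥M) ∈ N := htop ▸ mem_top _
    exact this

theorem pairs_all (i : Fin 3) : pairs P i = pairs P 0 := by
  rcases eq_or_ne i 0 with rfl | hi
  · rfl
  · exact le_antisymm (h.pairs_le_pairs hm hi) (h.pairs_le_pairs hm hi.symm)

/-- The structure modulo the centre. -/
theorem structure_mod_center : ∃ (N : Subgroup (Γ ⧸ center Γ)) (_ : N.Normal),
    Nonempty (↥N ≃* Cfsg.POmega (ZMod 3) (Cfsg.quadFormPlus 4 (ZMod 3))) ∧
      Nonempty ((Γ ⧸ center Γ) ⧸ N ≃* Equiv.Perm (Fin 3)) := by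
  set M := pairs P 0 with hM
  haveI hMn : M.Normal := ⟨fun m hm' g => by
    have := h.conj_pairs g hm'
    rwa [h.pairs_all hm] at this⟩
  -- the kernel of the action
  have hker : h.perm.ker = M := by
    refine (le_antisymm ?_ (h.pairs_le_ker 0))
    obtain ⟨a, ha⟩ := r_nonempty (h.refl 0)
    obtain ⟨b, hb⟩ := r_nonempty (h.refl 1)
    have hab := h.cross 0 1 (by decide) a ha b hb
    set π := QuotientGroup.mk' M
    have hcls : ∀ {i : Fin 3} {x y : Γ}, x ∈ P i → y ∈ P i → π x = π y := fun {i x y} hx hy =>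
      QuotientGroup.eq.2 (by
        rw [Cfsg.Lib.ThreeTr.inv_eq h.tr (h.mem hx), hM, ← h.pairs_all hm i]
        exact mul_mem_pairs hx hy)
    have hgen : closure ({π a, π b} : Set (Γ ⧸ M)) = ⊤ := by
      rw [eq_top_iff, ← map_top_of_surjective π (QuotientGroup.mk'_surjective M), ← h.gen,
        MonoidHom.map_closure, closure_le]
      rintro _ ⟨x, hx, rfl⟩
      obtain ⟨i, hi⟩ := Set.mem_iUnion.1 hx
      have h0 : π a ∈ closure ({π a, π b} : Set (Γ ⧸ M)) := subset_closure (Or.inl rfl)
      have h1 : π b ∈ closure ({π a, π b} : Set (Γ ⧸ M)) := subset_closure (Or.inr rfl)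
      rcases (by decide : ∀ i : Fin 3, i = 0 ∨ i = 1 ∨ i = swapOthers 0 1) i with rfl | rfl | rfl
      · rw [hcls hi ha]; exact h0
      · rw [hcls hi hb]; exact h1
      · rw [hcls hi (h.conj_other (by decide) ha hb), map_mul, map_mul]
        exact mul_mem (mul_mem h0 h1) h0
    have h6 : Nat.card (Γ ⧸ M) ≤ 6 := card_le_six (by rw [← map_mul, h.sq ha, map_one])
      (by rw [← map_mul, h.sq hb, map_one])
      (by rw [← map_mul, ← map_pow, cube_of_not_commute h.tr (h.mem ha) (h.mem hb) hab, map_one]) hgen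
    have hk : h.perm.ker.index = 6 := by
      rw [Subgroup.index_ker, MonoidHom.range_eq_top.2 h.perm_surjective,
        Nat.card_congr (Subgroup.topEquiv (G := Equiv.Perm (Fin 3))).toEquiv, Nat.card_perm, Nat.card_fin]
      rfl
    refine Subgroup.relIndex_eq_one.1 ?_
    have h2 := Subgroup.relIndex_mul_index (h.pairs_le_ker 0)
    rw [← hM, hk, Subgroup.index_eq_card] at h2
    rw [Subgroup.index_eq_card] at *
    have h0 : M.relIndex h.perm.ker ≠ 0 := fun e => by rw [e, zero_mul] at h2; exact Nat.card_pos.ne' h2.symm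
    have h3 : M.relIndex h.perm.ker * 6 ≤ 1 * 6 := by rw [h2, one_mul]; exact h6
    omega
  -- central elements
  have hcen : ∀ {g : Γ}, g ∈ M → ((∀ m ∈ M, Commute g m) ↔ g ∈ center Γ) := fun {g} hg => by
    refine ⟨fun hc => ?_, fun hc m _ => (mem_center_iff.1 hc m).symm⟩
    have hg1 : h.perm g = 1 := MonoidHom.mem_ker.1 (h.pairs_le_ker 0 hg)
    refine mem_center_iff.2 fun k => ?_
    have hle : closure (⋃ i, P i) ≤ centralizer ({g} : Set Γ) := (closure_le _).2 fun x hx => by
      obtain ⟨i, hi⟩ := Set.mem_iUnion.1 hx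
      have := h.fix_of_centralizes hg1 (fun m hm' => hc m (by rw [h.pairs_all hm i] at hm'; exact hm')) hi
      exact mem_centralizer_singleton_iff.2 (mul_inv_eq_iff_eq_mul.1 this).symm
    exact mem_centralizer_singleton_iff.1 (hle (h.gen ▸ mem_top k))
  set π := QuotientGroup.mk' (center Γ) with hπ
  haveI : (M.map π).Normal := hMn.map _ (QuotientGroup.mk'_surjective _)
  refine ⟨M.map π, inferInstance, ?_, ?_⟩
  · obtain ⟨-, hcenK, ⟨e⟩⟩ := h.model_facts hm 0
    let Φ : ↥(commutator ↥(closure (P 0))) ≃* ↥M :=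
      ((commutator ↥(closure (P 0))).equivMapOfInjective _ (closure (P 0)).subtype_injective).trans
        (MulEquiv.subgroupCongr (h.pairs_eq 0).symm)
    let ρ : ↥(commutator ↥(closure (P 0))) →* ↥(M.map π) :=
      (π.subgroupMap M).comp Φ.toMonoidHom
    have hρ : Function.Surjective ρ := (π.subgroupMap_surjective M).comp Φ.surjective
    have hρk : ρ.ker = center ↥(commutator ↥(closure (P 0))) := by
      ext w
      have h1 : ρ w = 1 ↔ (Φ w : Γ) ∈ center Γ := by
        rw [← Subtype.coe_inj]; exact QuotientGroup.eq_one_iff _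
      rw [MonoidHom.mem_ker, h1, ← hcen (Φ w).2, mem_center_iff]
      constructor
      · exact fun hc v => Φ.injective (by rw [map_mul, map_mul]; exact Subtype.ext (hc _ (Φ v).2).symm.eq)
      · intro hc m hm'
        obtain ⟨v, hv⟩ := Φ.surjective ⟨m, hm'⟩
        have := congrArg (fun t => ((Φ t : ↥M) : Γ)) (hc v)
        simp only [map_mul, Subgroup.coe_mul, hv] at this
        exact this.symm
    exact ⟨(QuotientGroup.quotientKerEquivOfSurjective ρ hρ).symm.trans
      ((QuotientGroup.quotientMulEquivOfEq hρk).trans e)⟩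
  · have hz : center Γ ≤ h.perm.ker := fun z hz => by
      refine MonoidHom.mem_ker.2 (Equiv.ext fun j => ?_)
      obtain ⟨y, hy⟩ := r_nonempty (h.refl j)
      refine h.index_unique (h.perm_spec z hy) ?_
      rwa [← mem_center_iff.1 hz y, mul_inv_cancel_right]
    let ψ : Γ ⧸ center Γ →* Equiv.Perm (Fin 3) := QuotientGroup.lift _ h.perm hz
    have hψ : Function.Surjective ψ := fun σ => by
      obtain ⟨g, rfl⟩ := h.perm_surjective σ
      exact ⟨g, rfl⟩
    have hψk : M.map π = ψ.ker := by
      rw [← hker]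
      exact (QuotientGroup.ker_lift (center Γ) h.perm hz).symm
    exact ⟨(QuotientGroup.quotientMulEquivOfEq hψk).trans (QuotientGroup.quotientKerEquivOfSurjective ψ hψ)⟩

end Trio

end Cfsg.Lib.Fischer.Models
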