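import Cfsg.Agent.Fischer.Iface
import Cfsg.Agent.Fischer.Refl.Space

/-!
Members labelled by norm one points in dimension eight: common neighbours and members commuting with neither of two.
-/

set_option autoImplicit false

namespace Cfsg.Lib.Fischer.Models

open Cfsg Cfsg.Lib.Fischer.Refl
open LinearMap (BilinForm)

universe u

variable {G : Type u} [Group G]

/-- Orthogonal norm one points beside given ones. -/
theorem exists_three {B : BilinForm (ZMod 3) (Fin 8 → ZMod 3)} (hs : B.IsSymm) (hn : B.Nondegenerate)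
    {v w : Fin 8 → ZMod 3} (hv : B v v = 1) (hw : B w w = 1) (hvw : B v w = 0) :
    ∃ a c : Fin 8 → ZMod 3, B a a = 1 ∧ B c c = 1 ∧ B a c = 0 ∧ B v a = 0 ∧ B v c = 0 ∧ B w a = 0 ∧ B w c = 0 := by
  have h2 : HasGram B ![v, w] (1 : Matrix (Fin 2) (Fin 2) (ZMod 3)) := by
    intro i j; fin_cases i <;> fin_cases j <;> simp [hv, hw, hvw, hs.eq w v]
  obtain ⟨a, haS, ha⟩ := one_in_compl hs hn h2 (by unfold Regular; decide) (by rw [Module.finrank_fin_fun]; norm_num)
  have e1 : B v a = 0 := haS 0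
  have e2 : B w a = 0 := haS 1
  have h3 : HasGram B ![v, w, a] (1 : Matrix (Fin 3) (Fin 3) (ZMod 3)) := by
    intro i j
    fin_cases i <;> fin_cases j <;>
      simp [hv, hw, ha, hvw, e1, e2, (hs.eq v w).symm.trans hvw, hs.eq w v, hs.eq a v, hs.eq a w]
  obtain ⟨c, hcS, hc⟩ := one_in_compl hs hn h3 (by unfold Regular; decide) (by rw [Module.finrank_fin_fun]; norm_num)
  exact ⟨a, c, ha, hc, hcS 2, e1, hcS 0, e2, hcS 1⟩

variable {S : Set G} (h : RLike S 8 1)
include h

theorem r_common {x y : G} (hx : x ∈ S) (hy : y ∈ S) (hxy : ¬ Commute x y) :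
    ∃ z ∈ S, Commute z x ∧ Commute z y := by
  obtain ⟨B, hs, hn, -, f, hf⟩ := h
  have hvv : B (f x) (f x) = 1 := hf.mem x hx
  have hww : B (f y) (f y) = 1 := hf.mem y hy
  have hs0 : B (f x) (f y) ≠ 0 := fun e =>
    hxy ((hf.comm x hx y hy fun e' => hxy (e' ▸ Commute.refl x)).2 e)
  obtain ⟨r, hr⟩ : ∃ r, r = f y - B (f x) (f y) • f x := ⟨_, rfl⟩
  have key : ∀ s : ZMod 3, s ≠ 0 → s * s = 1 := by decide
  have hrr : B r r = 0 := by
    simp [hr, hvv, hww, hs.eq (f y) (f x), key _ hs0]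
  have hvr : B (f x) r = 0 := by simp [hr, hvv]
  obtain ⟨z, hzv, hz, hzr⟩ := one_orth_compl hs hn (k := 1) (v := ![f x]) (M := 1)
    (by intro i j; fin_cases i; fin_cases j; simpa using hvv) (by unfold Regular; decide)
    (by rw [Module.finrank_fin_fun]; norm_num) (a := r) (fun i => by fin_cases i; simpa using hvr) hrr
  have hzx : B (f x) z = 0 := hzv 0
  have hzy : B (f y) z = 0 := by
    simpa [hr, hzx] using hzr
  obtain ⟨e, he, a, ha, rfl⟩ := hf.surj z hz
  rw [map_smul, smul_eq_mul, mul_eq_zero] at hzx hzy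
  have e1 : B (f e) (f x) = 0 := (hs.eq (f e) (f x)).trans (hzx.resolve_left ha)
  have e2 : B (f e) (f y) = 0 := (hs.eq (f e) (f y)).trans (hzy.resolve_left ha)
  have hex : e ≠ x := fun e' => by subst e'; rw [hvv] at e1; exact one_ne_zero e1
  have hey : e ≠ y := fun e' => by subst e'; rw [hww] at e2; exact one_ne_zero e2
  exact ⟨e, he, (hf.comm e he x hx hex).2 e1, (hf.comm e he y hy hey).2 e2⟩

theorem r_nonempty : S.Nonempty := by
  obtain ⟨B, hs, hn, -, f, hf⟩ := h
  obtain ⟨v, hv⟩ := Refl.exists_one hs hn (by rw [Module.finrank_fin_fun]; norm_num)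
  obtain ⟨x, hx, -⟩ := hf.surj v hv
  exact ⟨x, hx⟩

theorem r_neighbour {x : G} (hx : x ∈ S) : ∃ y ∈ S, y ≠ x ∧ Commute x y := by
  obtain ⟨B, hs, hn, -, f, hf⟩ := h
  have hvv : B (f x) (f x) = 1 := hf.mem x hx
  obtain ⟨z, hzv, hz⟩ := one_in_compl hs hn (k := 1) (v := ![f x]) (M := 1)
    (by intro i j; fin_cases i; fin_cases j; simpa using hvv) (by unfold Regular; decide)
    (by rw [Module.finrank_fin_fun]; norm_num)
  obtain ⟨y, hy, a, ha, rfl⟩ := hf.surj z hz
  have hxy : B (f x) (a • f y) = 0 := hzv 0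
  rw [map_smul, smul_eq_mul, mul_eq_zero] at hxy
  have hne : y ≠ x := fun e => by subst e; exact one_ne_zero (hvv.symm.trans (hxy.resolve_left ha))
  exact ⟨y, hy, hne, (hf.comm x hx y hy hne.symm).2 (hxy.resolve_left ha)⟩

/-- Two commuting members have a member commuting with neither. -/
theorem r_neither {x y : G} (hx : x ∈ S) (hy : y ∈ S) (hxy : Commute x y) (hne : x ≠ y) :
    ∃ z ∈ S, ¬ Commute z x ∧ ¬ Commute z y := by
  obtain ⟨B, hs, hn, -, f, hf⟩ := h
  have hvw : B (f x) (f y) = 0 := (hf.comm x hx y hy hne).1 hxy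
  have hvv : B (f x) (f x) = 1 := hf.mem x hx
  have hww : B (f y) (f y) = 1 := hf.mem y hy
  obtain ⟨a, c, ha, hc, hac, hva, hvc, hwa, hwc⟩ := exists_three hs hn hvv hww hvw
  obtain ⟨e, he, k, hk, hz⟩ := hf.surj (f x + f y + a + c) (by
    simp [hvv, hww, ha, hc, hvw, hac, hva, hvc, hwa, hwc, hs.eq (f y) (f x), hs.eq a (f x), hs.eq c (f x),
      hs.eq a (f y), hs.eq c (f y), hs.eq c a]
    decide)
  have e1 : k * B (f e) (f x) = 1 := by
    rw [← smul_eq_mul, ← LinearMap.smul_apply, ← map_smul, ← hz]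
    simp [hvv, hs.eq (f y) (f x), hvw, hs.eq a (f x), hva, hs.eq c (f x), hvc]
  have e2 : k * B (f e) (f y) = 1 := by
    rw [← smul_eq_mul, ← LinearMap.smul_apply, ← map_smul, ← hz]
    simp [hww, hvw, hs.eq a (f y), hwa, hs.eq c (f y), hwc]
  have hex : e ≠ x := fun e' => by
    subst e'; rw [hvw, mul_zero] at e2; exact zero_ne_one e2
  have hey : e ≠ y := fun e' => by
    subst e'; rw [hs.eq, hvw, mul_zero] at e1; exact zero_ne_one e1
  refine ⟨e, he, fun c' => ?_, fun c' => ?_⟩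
  · rw [(hf.comm e he x hx hex).1 c', mul_zero] at e1; exact zero_ne_one e1
  · rw [(hf.comm e he y hy hey).1 c', mul_zero] at e2; exact zero_ne_one e2

theorem r_far {x : G} (hx : x ∈ S) : ∃ z ∈ S, ¬ Commute z x := by
  obtain ⟨y, hy, hne, hc⟩ := r_neighbour h hx
  obtain ⟨z, hz, hzx, -⟩ := r_neither h hx hy hc hne.symm
  exact ⟨z, hz, hzx⟩

end Cfsg.Lib.Fischer.Models
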