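import Cfsg.Agent.Fischer.Models.TriLike.Points
import Cfsg.Agent.ThreeTransposition.Classes

/-!
Three sets of reflections, members of different ones not commuting: the group they generate permutes the three.
-/

set_option autoImplicit false
set_option linter.unusedSectionVars false

namespace Cfsg.Lib.Fischer.Models

open Cfsg Subgroup Cfsg.Lib.ThreeTr

universe u

variable {Γ : Type u} [Group Γ] {P : Fin 3 → Set Γ}

/-- Three sets of reflections generating the group. -/
structure Trio (P : Fin 3 → Set Γ) : Prop where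
  tr : IsThreeTranspositionSet (⋃ i, P i)
  closed : ∀ x ∈ ⋃ i, P i, ∀ y ∈ ⋃ i, P i, x * y * x ∈ ⋃ i, P i
  refl : ∀ i, RLike (P i) 8 1
  cross : ∀ i j, i ≠ j → ∀ x ∈ P i, ∀ y ∈ P j, ¬ Commute x y
  gen : closure (⋃ i, P i) = ⊤

/-- The permutation of the three sets induced by a member of the `i`-th. -/
def swapOthers (i : Fin 3) : Equiv.Perm (Fin 3) := Equiv.swap (i + 1) (i + 2)

/-- The products of pairs from one of the sets. -/
def pairs (P : Fin 3 → Set Γ) (i : Fin 3) : Subgroup Γ := closure {g | ∃ a ∈ P i, ∃ b ∈ P i, a * b = g}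

theorem mul_mem_pairs {i : Fin 3} {a b : Γ} (ha : a ∈ P i) (hb : b ∈ P i) : a * b ∈ pairs P i :=
  subset_closure ⟨a, ha, b, hb, rfl⟩

namespace Trio

variable (h : Trio P)
include h

theorem mem {i : Fin 3} {x : Γ} (hx : x ∈ P i) : x ∈ ⋃ j, P j := Set.mem_iUnion.2 ⟨i, hx⟩

theorem sq {i : Fin 3} {x : Γ} (hx : x ∈ P i) : x * x = 1 := sq_eq_one h.tr (h.mem hx)

theorem index_unique {i j : Fin 3} {x : Γ} (hi : x ∈ P i) (hj : x ∈ P j) : i = j :=
  by_contra fun e => h.cross i j e x hi x hj (Commute.refl x)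

theorem conj_same {i : Fin 3} {x y : Γ} (hx : x ∈ P i) (hy : y ∈ P i) : x * y * x ∈ P i := by
  by_cases hc : Commute x y
  · rwa [hc.eq, mul_assoc, h.sq hx, mul_one]
  obtain ⟨z, hz, czx, czy⟩ := r_common (h.refl i) hx hy hc
  obtain ⟨k, hk⟩ := Set.mem_iUnion.1 (h.closed x (h.mem hx) y (h.mem hy))
  obtain rfl : k = i := by_contra fun e => h.cross i k (Ne.symm e) z hz _ hk ((czx.mul_right czy).mul_right czx)
  exact hk

theorem conj_other {i j : Fin 3} (hij : i ≠ j) {x b : Γ} (hx : x ∈ P i) (hb : b ∈ P j) :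
    x * b * x ∈ P (swapOthers i j) := by
  have key : ∀ {i j : Fin 3}, i ≠ j → ∀ {x b : Γ}, x ∈ P i → b ∈ P j → x * b * x ∉ P i := by
    intro i j hij x b hx hb hw
    have hn : ¬ Commute x (x * b * x) := fun c => h.cross i j hij x hx b hb (by
      have := ((Commute.refl x).mul_right c).mul_right (Commute.refl x)
      rwa [invol_conj_conj (h.sq hx)] at this)
    obtain ⟨z, hz, czx, czw⟩ := r_common (h.refl i) hx hw hn
    have := (czx.mul_right czw).mul_right czx
    rw [invol_conj_conj (h.sq hx)] at this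
    exact h.cross i j hij z hz b hb this
  obtain ⟨k, hk⟩ := Set.mem_iUnion.1 (h.closed x (h.mem hx) b (h.mem hb))
  have h1 : k ≠ i := fun e => key hij hx hb (e ▸ hk)
  have h2 : k ≠ j := fun e => key hij.symm hb hx (by
    rw [← braid h.tr (h.mem hx) (h.mem hb) (h.cross i j hij x hx b hb)]
    exact e ▸ hk)
  have e : swapOthers i j = k := (by decide : ∀ i j k : Fin 3, i ≠ j → k ≠ i → k ≠ j → swapOthers i j = k) i j k hij h1 h2
  exact e ▸ hk

theorem exists_perm (g : Γ) : ∃ σ : Equiv.Perm (Fin 3), ∀ j, ∀ y ∈ P j, g * y * g⁻¹ ∈ P (σ j) := by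
  have hg : g ∈ closure (⋃ i, P i) := h.gen ▸ mem_top g
  induction hg using closure_induction'' with
  | one => exact ⟨1, fun j y hy => by simpa using hy⟩
  | mem x hx =>
    obtain ⟨i, hi⟩ := Set.mem_iUnion.1 hx
    refine ⟨swapOthers i, fun j y hy => ?_⟩
    rw [Cfsg.Lib.ThreeTr.inv_eq h.tr hx]
    rcases eq_or_ne i j with rfl | hij
    · rw [show swapOthers i i = i from (by decide : ∀ i, swapOthers i i = i) i]
      exact h.conj_same hi hy
    · exact h.conj_other hij hi hy
  | inv_mem x hx =>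
    obtain ⟨i, hi⟩ := Set.mem_iUnion.1 hx
    refine ⟨swapOthers i, fun j y hy => ?_⟩
    rw [Cfsg.Lib.ThreeTr.inv_eq h.tr hx, Cfsg.Lib.ThreeTr.inv_eq h.tr hx]
    rcases eq_or_ne i j with rfl | hij
    · rw [show swapOthers i i = i from (by decide : ∀ i, swapOthers i i = i) i]
      exact h.conj_same hi hy
    · exact h.conj_other hij hi hy
  | mul a b _ _ ha hb =>
    obtain ⟨s, hs⟩ := ha
    obtain ⟨t, ht⟩ := hb
    refine ⟨s * t, fun j y hy => ?_⟩
    rw [show a * b * y * (a * b)⁻¹ = a * (b * y * b⁻¹) * a⁻¹ by group]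
    exact hs _ _ (ht j y hy)

/-- The action on the three sets. -/
noncomputable def perm : Γ →* Equiv.Perm (Fin 3) :=
  MonoidHom.mk' (fun g => (h.exists_perm g).choose) fun a b => Equiv.ext fun j => by
    obtain ⟨y, hy⟩ := r_nonempty (h.refl j)
    refine h.index_unique ((h.exists_perm (a * b)).choose_spec j y hy) ?_
    rw [show a * b * y * (a * b)⁻¹ = a * (b * y * b⁻¹) * a⁻¹ by group]
    exact (h.exists_perm a).choose_spec _ _ ((h.exists_perm b).choose_spec j y hy)

theorem perm_spec (g : Γ) {j : Fin 3} {y : Γ} (hy : y ∈ P j) : g * y * g⁻¹ ∈ P (h.perm g j) :=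
  (h.exists_perm g).choose_spec j y hy

theorem perm_member {i : Fin 3} {x : Γ} (hx : x ∈ P i) : h.perm x = swapOthers i := by
  refine Equiv.ext fun j => ?_
  obtain ⟨y, hy⟩ := r_nonempty (h.refl j)
  refine h.index_unique (h.perm_spec x hy) ?_
  rw [Cfsg.Lib.ThreeTr.inv_eq h.tr (h.mem hx)]
  rcases eq_or_ne i j with rfl | hij
  · rw [show swapOthers i i = i from (by decide : ∀ i, swapOthers i i = i) i]
    exact h.conj_same hx hy
  · exact h.conj_other hij hx hy

theorem perm_surjective : Function.Surjective h.perm := by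
  intro σ
  have hr : ∀ i, swapOthers i ∈ h.perm.range := fun i => by
    obtain ⟨x, hx⟩ := r_nonempty (h.refl i)
    exact ⟨x, h.perm_member hx⟩
  rcases (by decide : ∀ σ : Equiv.Perm (Fin 3), σ = 1 ∨ σ = swapOthers 0 ∨ σ = swapOthers 1 ∨ σ = swapOthers 2 ∨
      σ = swapOthers 0 * swapOthers 1 ∨ σ = swapOthers 1 * swapOthers 0) σ with rfl | rfl | rfl | rfl | rfl | rfl
  exacts [⟨1, map_one _⟩, hr 0, hr 1, hr 2, mul_mem (hr 0) (hr 1), mul_mem (hr 1) (hr 0)]

theorem pairs_le_ker (i : Fin 3) : pairs P i ≤ h.perm.ker := (closure_le _).2 fun g ⟨a, ha, b, hb, e⟩ => by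
  rw [SetLike.mem_coe, MonoidHom.mem_ker, ← e, map_mul, h.perm_member ha, h.perm_member hb]
  exact Equiv.swap_mul_self _ _

theorem conj_ker {g : Γ} (hg : h.perm g = 1) {i : Fin 3} {y : Γ} (hy : y ∈ P i) : g * y * g⁻¹ ∈ P i := by
  have := h.perm_spec g hy
  rwa [hg] at this

theorem conj_pairs (g : Γ) {i : Fin 3} {m : Γ} (hm : m ∈ pairs P i) : g * m * g⁻¹ ∈ pairs P (h.perm g i) := by
  have : pairs P i ≤ (pairs P (h.perm g i)).comap (MulAut.conj g).toMonoidHom := (closure_le _).2 fun t ⟨a, ha, b, hb, e⟩ => by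
    show g * t * g⁻¹ ∈ pairs P (h.perm g i)
    rw [← e, show g * (a * b) * g⁻¹ = g * a * g⁻¹ * (g * b * g⁻¹) by group]
    exact mul_mem_pairs (h.perm_spec g ha) (h.perm_spec g hb)
  exact this hm

/-- An element fixing the sets and commuting with the products of one fixes that set pointwise. -/
theorem fix_of_centralizes {g : Γ} (hg : h.perm g = 1) {j : Fin 3} (hc : ∀ m ∈ pairs P j, Commute g m) {b : Γ}
    (hb : b ∈ P j) : g * b * g⁻¹ = b := by
  set b' := g * b * g⁻¹ with hb'
  have hb'P : b' ∈ P j := h.conj_ker hg hb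
  have hrel : ∀ e ∈ P j, e * (b' * b) * e = b * b' := by
    intro e he
    have he'2 : (g * e * g⁻¹) * (g * e * g⁻¹) = 1 := h.sq (h.conj_ker hg he)
    have e1 : b' * (g * e * g⁻¹) = b * e := by
      rw [hb', show g * b * g⁻¹ * (g * e * g⁻¹) = g * (b * e) * g⁻¹ by group,
        (hc _ (mul_mem_pairs hb he)).eq, mul_inv_cancel_right]
    have e2 : g * e * g⁻¹ = b' * b * e := by
      rw [mul_assoc b' b e, ← e1, ← mul_assoc b' b', h.sq hb'P, one_mul]
    rw [e2] at he'2
    have := inv_eq_of_mul_eq_one_left he'2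
    calc e * (b' * b) * e = e * (b' * b * e) := by simp only [mul_assoc]
      _ = e * (b' * b * e)⁻¹ := by rw [this]
      _ = e * (e⁻¹ * b⁻¹ * b'⁻¹) := by group
      _ = b * b' := by rw [Cfsg.Lib.ThreeTr.inv_eq h.tr (h.mem hb), Cfsg.Lib.ThreeTr.inv_eq h.tr (h.mem hb'P)]; group
  by_contra hne
  have hcomm : Commute b b' := by
    by_contra hn
    obtain ⟨e, he, ceb, ceb'⟩ := r_common (h.refl j) hb hb'P hn
    have := hrel e he
    rw [(ceb'.mul_right ceb).eq, mul_assoc, h.sq he, mul_one] at this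
    exact hn this.symm
  obtain ⟨e, he, hne'⟩ := r_far (h.refl j) hb
  refine hne' ((commute_pair_iff h.tr (h.mem hb'P) (h.mem hb) (h.mem he) hne hcomm.symm).1 ?_).2
  have h1 := hrel e he
  rw [hcomm.eq] at h1
  show e * (b' * b) = b' * b * e
  calc e * (b' * b) = e * (b' * b) * e * e := by rw [mul_assoc (e * (b' * b)), h.sq he, mul_one]
    _ = b' * b * e := by rw [h1]

/-- No element of one product group centralises another one. -/
theorem not_centralizes {i j : Fin 3} (hij : i ≠ j) : ∃ m ∈ pairs P i, ∃ m' ∈ pairs P j, ¬ Commute m m' := by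
  by_contra hcon
  push Not at hcon
  obtain ⟨x, hx⟩ := r_nonempty (h.refl i)
  obtain ⟨x', hx', hne, -⟩ := r_neighbour (h.refl i) hx
  obtain ⟨b, hb⟩ := r_nonempty (h.refl j)
  have hm := mul_mem_pairs hx hx'
  have hfix := h.fix_of_centralizes (MonoidHom.mem_ker.1 (h.pairs_le_ker i hm)) (fun m hm' => hcon _ hm m hm') hb
  rw [mul_inv_rev, Cfsg.Lib.ThreeTr.inv_eq h.tr (h.mem hx), Cfsg.Lib.ThreeTr.inv_eq h.tr (h.mem hx')] at hfix
  have e1 : x' * b * x' = x * b * x := by
    calc x' * b * x' = x * (x * x' * b * (x' * x)) * x := by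
          simp only [← mul_assoc, h.sq hx, one_mul]; rw [mul_assoc _ x x, h.sq hx, mul_one]
      _ = x * b * x := by rw [hfix]
  rw [braid h.tr (h.mem hx) (h.mem hb) (h.cross i j hij x hx b hb),
    braid h.tr (h.mem hx') (h.mem hb) (h.cross i j hij x' hx' b hb)] at e1
  exact hne (mul_left_cancel (mul_right_cancel e1))

end Trio

end Cfsg.Lib.Fischer.Models
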